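import Cfsg.Agent.Lib.Recog.SporBound.Sound
import Cfsg.Agent.Lib.Recog.SporBound.SpiderIn.Tree0

set_option autoImplicit false
set_option maxRecDepth 20000

/-! Generated closure certificate: Spider relation inside the Y522 quotient (owner: helper21). -/

namespace CfsgLib.Recog.SporBound.SpiderIn
open CfsgLib.Recog.SporBound

noncomputable def factTree : Q (ℕ) := (.node ft13 ft27 ft41 ft55)
noncomputable def nodeTree : Q (ℕ) := ct0
noncomputable def stepTree : Q (List ℕ) := (.node st16 st33 st50 st66)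
noncomputable def finalTree : Q (List ℕ) := (.leaf [])

/-- The certificate. -/
noncomputable def cert : Cert where
  n := 1
  nd := 2664
  nf := 6638
  kl := []
  facts := factTree
  cn := nodeTree
  steps := stepTree
  finals := finalTree
  rels := [[0, 0], [1, 1], [2, 2], [3, 3], [4, 4], [5, 5], [6, 6], [7, 7], [8, 8], [9, 9], [0, 1, 0, 1, 0, 1], [0, 2, 0, 2], [0, 3, 0, 3], [0, 4, 0, 4], [0, 5, 0, 5], [0, 6, 0, 6], [0, 7, 0, 7], [0, 8, 0, 8, 0, 8], [0, 9, 0, 9], [1, 2, 1, 2, 1, 2], [1, 3, 1, 3], [1, 4, 1, 4], [1, 5, 1, 5], [1, 6, 1, 6], [1, 7, 1, 7], [1, 8, 1, 8], [1, 9, 1, 9], [2, 3, 2, 3, 2, 3], [2, 4, 2, 4], [2, 5, 2, 5], [2, 6, 2, 6], [2, 7, 2, 7], [2, 8, 2, 8], [2, 9, 2, 9], [3, 4, 3, 4, 3, 4], [3, 5, 3, 5], [3, 6, 3, 6, 3, 6], [3, 7, 3, 7], [3, 8, 3, 8], [3, 9, 3, 9], [4, 5, 4, 5, 4, 5], [4, 6, 4, 6], [4, 7, 4, 7], [4, 8, 4, 8], [4, 9, 4, 9], [5, 6, 5, 6], [5, 7, 5, 7],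 [5, 8, 5, 8], [5, 9, 5, 9], [6, 7, 6, 7, 6, 7], [6, 8, 6, 8], [6, 9, 6, 9], [7, 8, 7, 8], [7, 9, 7, 9], [8, 9, 8, 9, 8, 9], [9, 6, 5, 4, 3, 2, 1, 0, 6, 5, 4, 3, 2, 1, 0, 6, 5, 4, 3, 2, 1, 0, 6, 5, 4, 3, 2, 1, 0, 6, 5, 4, 3, 2, 1, 0, 6, 5, 4, 3, 2, 1, 0, 6, 5, 4, 3, 2, 1, 0, 6, 5, 4, 3, 2, 1, 0, 6, 5, 4, 3, 2, 1, 0]]
  subs := [[0], [1], [2], [3], [4], [5], [6], [8], [9]]

/-- Chains of the traced words. -/
noncomputable def closers : List ℕ := [0x10000200a830000400a9000a8f00a990000900aae0000f00ac700ae300b020003100b640005a00bdb0009a000d90012900d300019000e7a00f2f019ed002a10020b00e6c0020100e6800e6900db600db500db000db100e65001fd00dab0017e0017f00dae00e6400e6300db300db400184002010029700f230029800f2500f22019ea002990020400dbc0012a00cac00c3d00be400b9f00b6000b6100b2d000300001f00ad50000d0000800a9200005000030000200a7e0000100a7400a7600a7500a7400a7200a7300a740000000a6e00a6b00a6d00a6c00a6b00a6900a6a00a6b0005c00000]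

end CfsgLib.Recog.SporBound.SpiderIn
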